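import Cfsg.Agent.EqLemmas
import Cfsg.Agent.Lib.SylowCount.Basic
import Cfsg.Agent.Lib.Solvable.PiSeparable
import Cfsg.Agent.Lib.ClassIndex.PSolvable
import Cfsg.Agent.Lib.Coprime.Factorization
import Cfsg.Agent.Lib.BrauerN.Main
import Cfsg.Agent.S4343

/-!
# Fewer than `p²` Sylow `p`-subgroups

* `prime_pow_of_separable`: for a `p`-separable group their number is a prime power
* `not_simple`: no nonabelian simple group of order divisible by `p` has a prime power of them, unless
  `p + 1` is a power of `2`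
* `isPSolvable_of_prime_pow`
-/

set_option autoImplicit false
set_option linter.unusedSectionVars false
set_option linter.style.haveILetI false

namespace Cfsg.Agent.FewSylowPrimePow

open scoped commutatorElement

universe u

variable {p : ℕ} [hp : Fact p.Prime]

theorem modEq_one_ge {k : ℕ} (h : k % p = 1) (h1 : k ≠ 1) : p + 1 ≤ k := by
  have := Nat.mod_add_div k p
  rw [h] at this
  have h0 : k / p ≠ 0 := fun h0 => h1 (by rw [h0, mul_zero, add_zero] at this; exact this.symm)
  have h2 : p * 1 ≤ p * (k / p) := Nat.mul_le_mul_left p (Nat.pos_of_ne_zero h0)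
  omega

variable {G : Type*} [Group G] [Finite G]

theorem card_sylow_normal_dvd (N : Subgroup G) [N.Normal] :
    Nat.card (Sylow p N) ∣ Nat.card (Sylow p G) := by
  obtain ⟨S⟩ := (inferInstance : Nonempty (Sylow p N))
  obtain ⟨P, hP⟩ := (S.isPGroup'.map N.subtype).exists_le_sylow
  have hPN : ((P : Subgroup G) ⊓ N).subgroupOf N = (S : Subgroup N) := S.is_maximal'
    ((P.isPGroup'.to_le inf_le_left).comap_of_injective N.subtype Subtype.val_injective)
    fun x hx => ⟨hP ⟨x, hx, rfl⟩, x.2⟩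
  have h1 : Nat.card (Sylow p N) =
      (Subgroup.normalizer (((P : Subgroup G) ⊓ N : Subgroup G) : Set G)).relIndex N := by
    rw [Sylow.card_eq_index_normalizer S]
    show (Subgroup.normalizer (((S : Subgroup N)) : Set N)).index = _
    rw [← hPN, ← Subgroup.subgroupOf_normalizer_eq inf_le_right]
    rfl
  have h2 : Subgroup.normalizer ((P : Subgroup G) : Set G) ≤
      Subgroup.normalizer (((P : Subgroup G) ⊓ N : Subgroup G) : Set G) := by
    intro g hg
    rw [Subgroup.mem_normalizer_iff] at hg ⊢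
    intro x
    constructor
    · rintro ⟨hx, hxN⟩
      exact ⟨(hg x).1 hx, ‹N.Normal›.conj_mem x hxN g⟩
    · rintro ⟨hx, hxN⟩
      refine ⟨(hg x).2 hx, ?_⟩
      have := ‹N.Normal›.conj_mem _ hxN g⁻¹
      simpa [mul_assoc] using this
  rw [h1, SylowCount.card_sylow_eq_quotient_mul N P, SylowCount.card_sylow_sup_eq N P]
  exact Dvd.dvd.mul_left (Subgroup.relIndex_dvd_of_le_left _ h2) _

theorem card_sylow_quotient_dvd (N : Subgroup G) [N.Normal] :
    Nat.card (Sylow p (G ⧸ N)) ∣ Nat.card (Sylow p G) := by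
  obtain ⟨P⟩ := (inferInstance : Nonempty (Sylow p G))
  exact ⟨_, SylowCount.card_sylow_eq_quotient_mul N P⟩

/-- The fixed points of a `p`-group on a subgroup of order prime to `p`. -/
theorem quotient_modEq {P Q : Subgroup G} (hP : IsPGroup p P)
    (hPQ : P ≤ Subgroup.normalizer (Q : Set G)) :
    Nat.card Q % p = Nat.card ↥(Q ⊓ Subgroup.centralizer (P : Set G)) % p := by
  letI : MulAction ↥P ↥Q :=
    { smul := fun a x => ⟨(a : G) * x * (a : G)⁻¹, (Subgroup.mem_normalizer_iff.1 (hPQ a.2) _).1 x.2⟩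
      one_smul := fun x => Subtype.ext (show (1 : G) * x * (1 : G)⁻¹ = x by simp)
      mul_smul := fun a b x => Subtype.ext (show ((a : G) * b) * x * ((a : G) * b)⁻¹ = _ by
        show _ = (a : G) * ((b : G) * x * (b : G)⁻¹) * (a : G)⁻¹
        group) }
  have h : Nat.card (MulAction.fixedPoints ↥P ↥Q) = Nat.card ↥(Q ⊓ Subgroup.centralizer (P : Set G)) :=
    Nat.card_congr
      { toFun := fun x => ⟨(x : ↥Q), (x : ↥Q).2, Subgroup.mem_centralizer_iff.2 fun a ha =>
          mul_inv_eq_iff_eq_mul.1 (congrArg Subtype.val (x.2 ⟨a, ha⟩))⟩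
        invFun := fun y => ⟨⟨y, y.2.1⟩, fun a => Subtype.ext
          (mul_inv_eq_iff_eq_mul.2 (Subgroup.mem_centralizer_iff.1 y.2.2 a a.2))⟩
        left_inv := fun x => rfl
        right_inv := fun y => rfl }
  rw [← h]
  exact hP.card_modEq_card_fixedPoints ↥Q

/-- Every prime part of `|M : C_M(P)|` is `≡ 1 mod p`. -/
theorem ordProj_modEq {P M : Subgroup G} (hP : IsPGroup p P) (hPM : P ≤ Subgroup.normalizer (M : Set G))
    (hM : ¬ p ∣ Nat.card M) (q : ℕ) [hq : Fact q.Prime] :
    q ^ ((M ⊓ Subgroup.centralizer (P : Set G)).relIndex M).factorization q % p = 1 := by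
  set X := M ⊓ Subgroup.centralizer (P : Set G) with hX
  have hcop : (Nat.card P).Coprime (Nat.card M) := by
    obtain ⟨k, hk⟩ := IsPGroup.iff_card.1 hP
    rw [hk]
    exact Nat.Coprime.pow_left k (hp.out.coprime_iff_not_dvd.2 hM)
  haveI : Group.IsNilpotent ↥P := hP.isNilpotent
  have hs : Group.IsSolvable ↥P ∨ Group.IsSolvable ↥M := Or.inl inferInstance
  obtain ⟨T⟩ := (inferInstance : Nonempty (Sylow q X))
  have hT' : (T : Subgroup X).map X.subtype ≤ X := Subgroup.map_subtype_le _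
  obtain ⟨Q, hTQ, hQM, hQP, hQ⟩ := Coprime.exists_invariant_card hPM hcop hs q
    (hT'.trans inf_le_left) (T.2.map _)
    ((Subgroup.le_centralizer_iff.1 (hT'.trans inf_le_right)).trans
      (Subgroup.centralizer_le_normalizer _))
  have hQX : Nat.card ↥(Q ⊓ Subgroup.centralizer (P : Set G)) = q ^ (Nat.card X).factorization q := by
    refine le_antisymm (Coprime.card_le_of_isPGroup ((Coprime.isPGroup_of_card hQ).to_le inf_le_left)
      (inf_le_inf_right _ hQM)) ?_
    refine le_trans (le_of_eq ?_) (Subgroup.card_le_of_le (le_inf hTQ (hT'.trans inf_le_right)))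
    rw [Subgroup.card_map_of_injective X.subtype_injective, T.card_eq_multiplicity]
  have hmul : Nat.card X * X.relIndex M = Nat.card M := by
    rw [← Subgroup.relIndex_bot_left, ← Subgroup.relIndex_bot_left]
    exact Subgroup.relIndex_mul_relIndex ⊥ X M bot_le inf_le_left
  have hfac : (Nat.card M).factorization q = (Nat.card X).factorization q + (X.relIndex M).factorization q := by
    rw [← hmul, Nat.factorization_mul Nat.card_pos.ne' (fun h0 => by
      rw [h0, mul_zero] at hmul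
      exact Nat.card_pos.ne' hmul.symm)]
    rfl
  have h := quotient_modEq (Q := Q) hP hQP
  rw [hQ, hQX, hfac, pow_add] at h
  have hqp : ∀ k, q ^ k ∣ Nat.card M → Nat.Coprime p (q ^ k) := fun k hk =>
    hp.out.coprime_iff_not_dvd.2 fun hd => hM (hd.trans hk)
  have h' : q ^ (Nat.card X).factorization q * q ^ (X.relIndex M).factorization q ≡
      q ^ (Nat.card X).factorization q * 1 [MOD p] := by rw [mul_one]; exact h
  have h2 := Nat.ModEq.cancel_left_of_coprime (hqp _ ((Nat.ordProj_dvd _ _).trans (Subgroup.card_dvd_of_le inf_le_left))) h'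
  rw [h2]
  exact Nat.one_mod_eq_one.2 hp.out.ne_one

theorem prime_pow_of_separable : ∀ (n : ℕ) {G : Type u} [Group G] [Finite G], Nat.card G = n →
    Solvable.IsPiSeparable {p} G → Nat.card (Sylow p G) < p ^ 2 →
      ∃ q k : ℕ, q.Prime ∧ Nat.card (Sylow p G) = q ^ k := by
  intro n
  induction n using Nat.strong_induction_on with
  | _ n ih =>
  intro G _ _ hG hsep hn
  have h2 : (2 : ℕ).Prime := Nat.prime_two
  rcases subsingleton_or_nontrivial G with hs | hs
  · refine ⟨2, 0, h2, ?_⟩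
    rw [pow_zero]
    haveI : Subsingleton (Sylow p G) := ⟨fun a b => Sylow.ext (Subsingleton.elim _ _)⟩
    exact Nat.card_eq_one_iff_unique.2 ⟨inferInstance, inferInstance⟩
  obtain ⟨M, hM, hne, hnum⟩ := hsep.exists_normal_ne_bot
  obtain ⟨P⟩ := (inferInstance : Nonempty (Sylow p G))
  have heq := SylowCount.card_sylow_eq_quotient_mul M P
  set a := Nat.card (Sylow p (G ⧸ M)) with ha
  set b := Nat.card (Sylow p ↥((P : Subgroup G) ⊔ M)) with hb
  have hrec : b = 1 → ∃ q k : ℕ, q.Prime ∧ Nat.card (Sylow p G) = q ^ k := fun hb1 => by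
    rw [hb1, mul_one] at heq
    have hlt : Nat.card (G ⧸ M) < n := by
      rw [← hG, Subgroup.card_eq_card_quotient_mul_card_subgroup M]
      exact lt_mul_of_one_lt_right Nat.card_pos ((Subgroup.one_lt_card_iff_ne_bot M).mpr hne)
    obtain ⟨q, k, hq, hqk⟩ := ih _ hlt rfl (hsep.quotient M) (by rw [← ha]; rwa [← heq])
    exact ⟨q, k, hq, heq.trans hqk⟩
  by_cases hb1 : b = 1
  · exact hrec hb1
  have hmod : ∀ (H : Type u) [Group H] [Finite H], Nat.card (Sylow p H) % p = 1 := fun H _ _ =>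
    Eq.trans (card_sylow_modEq_one p H) (Nat.one_mod_eq_one.mpr hp.out.ne_one)
  have hbp : p + 1 ≤ b := modEq_one_ge (hmod _) hb1
  have ha1 : a = 1 := by
    by_contra ha1
    have := Nat.mul_le_mul (modEq_one_ge (hmod _) ha1) hbp
    rw [← heq] at this
    have : p ^ 2 ≤ (p + 1) * (p + 1) := by rw [sq]; exact Nat.mul_le_mul (by omega) (by omega)
    omega
  rw [ha1, one_mul] at heq
  rcases hnum with h1 | h1
  · exfalso
    apply hb1
    rw [hb, SylowCount.card_sylow_sup_eq, Subgroup.relIndex_eq_one]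
    have hMp : IsPGroup p M := IsPGroup.of_card
      (Nat.eq_prime_pow_of_unique_prime_dvd Nat.card_pos.ne' fun {q} hq hd => h1 q hq hd)
    exact ((Cores.le_pCore hM hMp).trans (Cores.pCore_le_sylow P)).trans Subgroup.le_normalizer
  have hMp' : ¬ p ∣ Nat.card M := fun hd => h1 p hp.out hd rfl
  have hcop : (Nat.card (P : Subgroup G)).Coprime (Nat.card M) := by
    obtain ⟨k, hk⟩ := IsPGroup.iff_card.1 P.isPGroup'
    rw [hk]
    exact Nat.Coprime.pow_left k (hp.out.coprime_iff_not_dvd.2 hMp')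
  have hPM : (P : Subgroup G) ≤ Subgroup.normalizer (M : Set G) := by
    rw [Subgroup.normalizer_eq_top]; exact le_top
  set X := M ⊓ Subgroup.centralizer ((P : Subgroup G) : Set G) with hXd
  have hbX : b = X.relIndex M := by
    rw [hb, SylowCount.card_sylow_sup_eq, ← Subgroup.inf_relIndex_right]
    congr 1
    refine le_antisymm (fun x hx => ⟨hx.2, Coprime.mem_centralizer_of_normalizer hPM hcop hx.2 hx.1⟩)
      fun x hx => ⟨Subgroup.centralizer_le_normalizer _ hx.2, hx.1⟩
  rw [hbX] at heq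
  have hm0 : X.relIndex M ≠ 0 := by rw [← hbX]; omega
  set q := Nat.minFac (X.relIndex M) with hq
  have hm1 : X.relIndex M ≠ 1 := by rw [← hbX]; exact hb1
  have hqp : q.Prime := Nat.minFac_prime hm1
  refine ⟨q, (X.relIndex M).primeFactorsList.length, hqp, heq.trans
    (Nat.eq_prime_pow_of_unique_prime_dvd hm0 fun {r} hr hrd => ?_)⟩
  by_contra hne'
  haveI := Fact.mk hqp
  haveI := Fact.mk hr
  have hpos : ∀ s : ℕ, s.Prime → s ∣ X.relIndex M → s ^ (X.relIndex M).factorization s ≠ 1 := fun s hs hsd e => by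
    have h0 := hs.factorization_pos_of_dvd hm0 hsd
    have := Nat.one_lt_pow h0.ne' hs.one_lt
    omega
  have hA := modEq_one_ge (ordProj_modEq P.isPGroup' hPM hMp' q) (hpos q hqp (Nat.minFac_dvd _))
  have hB := modEq_one_ge (ordProj_modEq P.isPGroup' hPM hMp' r) (hpos r hr hrd)
  have hd := Nat.Coprime.mul_dvd_of_dvd_of_dvd
    (Nat.Coprime.pow ((X.relIndex M).factorization q) ((X.relIndex M).factorization r)
      ((Nat.coprime_primes hqp hr).2 (Ne.symm hne')))
    (Nat.ordProj_dvd (X.relIndex M) q) (Nat.ordProj_dvd (X.relIndex M) r)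
  have h3 := (Nat.mul_le_mul hA hB).trans (Nat.le_of_dvd (Nat.pos_of_ne_zero hm0) hd)
  have h4 : p ^ 2 ≤ (p + 1) * (p + 1) := by rw [sq]; exact Nat.mul_le_mul (by omega) (by omega)
  omega

/-- The arithmetic of the general form. -/
theorem form_not_prime_pow {n : ℕ} (hn1 : 1 ≤ n) (hn : n < p) (hF : BrauerN.HasForm p n) :
    ¬ ∃ q k : ℕ, q.Prime ∧ 1 + n * p = q ^ k := by
  rintro ⟨q, k, hq, hqk⟩
  obtain ⟨h, u, hh, hu, e⟩ := hF
  have hh1 : h = 1 := by
    by_contra hne
    have h2 : 2 * u * p ≤ h * u * p := by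
      refine Nat.mul_le_mul_right _ (Nat.mul_le_mul_right _ ?_); omega
    have h3 : n * (u + 1) < p * (u + 1) := Nat.mul_lt_mul_of_pos_right hn (by omega)
    nlinarith [Nat.mul_le_mul_right p hu]
  subst hh1
  have hnu : u < n := by
    by_contra hc
    push Not at hc
    have := Nat.mul_le_mul_right (u + 1) hc
    nlinarith
  obtain ⟨A, hA⟩ : ∃ A, n = u + A := ⟨n - u, by omega⟩
  subst hA
  have hA1 : A * (u + 1) = u * p + 1 := by linarith
  have hN : 1 + (u + A) * p = A * (p + u + 1) := by linarith [hA1]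
  rw [hN] at hqk
  obtain ⟨i, -, hi⟩ := (Nat.dvd_prime_pow hq).1 (Dvd.intro (p + u + 1) hqk)
  obtain ⟨j, -, hj⟩ := (Nat.dvd_prime_pow hq).1 (Dvd.intro_left A hqk)
  have hlt : A < p + u + 1 := by omega
  have hij : i ≤ j := by
    by_contra hc
    have := Nat.pow_le_pow_right hq.pos (le_of_lt (not_le.1 hc))
    omega
  obtain ⟨d, hd⟩ : A ∣ p + u + 1 := by rw [hi, hj]; exact Nat.pow_dvd_pow q hij
  have hd2 : 2 ≤ d := by
    rcases d with _ | _ | d
    · omega
    · omega
    · omega
  have hub : u * u + u + 1 < p := by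
    have h3 : (u + A) * (u + 1) < p * (u + 1) := Nat.mul_lt_mul_of_pos_right hn (by omega)
    nlinarith
  have he : d * (u * p + 1) = (p + u + 1) * (u + 1) := by
    rw [hd, ← hA1]; ring
  rcases Nat.lt_or_ge u 2 with hu2 | hu2
  · obtain rfl : u = 1 := by omega
    rcases Nat.lt_or_ge d 3 with hd3 | hd3
    · obtain rfl : d = 2 := by omega
      omega
    · have := Nat.mul_le_mul_right (1 * p + 1) hd3
      omega
  · have h5 := Nat.mul_le_mul_right (u * p + 1) hd2
    have h6 := Nat.mul_le_mul_right p hu2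
    nlinarith [Nat.mul_le_mul hu2 (le_refl p), Nat.mul_le_mul_right (u * p) hd2]

theorem eq_of_mod_eq {a m : ℕ} (h : m % p = a % p) (hm : m < p) (ha : a < p) : m = a := by
  rwa [Nat.mod_eq_of_lt hm, Nat.mod_eq_of_lt ha] at h

/-- No simple group has a prime power of them. -/
theorem not_simple [IsSimpleGroup G] (hS : ¬ IsMulCommutative G) (hpG : p ∣ Nat.card G)
    (hp' : ¬ (3 < p ∧ ∃ k : ℕ, p + 1 = 2 ^ k)) (hn : Nat.card (Sylow p G) < p ^ 2) :
    ¬ ∃ q k : ℕ, q.Prime ∧ Nat.card (Sylow p G) = q ^ k := by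
  rintro ⟨q, j, hq, hqj⟩
  obtain ⟨P⟩ := (inferInstance : Nonempty (Sylow p G))
  have hP : Nat.card P = p := S4343.result hS p hpG hn P
  obtain ⟨k, hk⟩ := BrauerN.card_sylow_form p G
  have hk1 : 1 ≤ k := by
    by_contra hk0
    have hk0' : k = 0 := by omega
    rw [hk0', zero_mul, add_zero, Nat.card_eq_one_iff_unique] at hk
    haveI := hk.1
    rcases (Sylow.normal_of_subsingleton P).eq_bot_or_eq_top with h | h
    · exact P.ne_bot_of_dvd_card hpG h
    · apply hS
      haveI : IsCyclic G := isCyclic_of_prime_card (p := p) (by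
        rw [← Subgroup.card_top, ← h]; exact hP)
      exact IsCyclic.commutative
  have hkp : k < p := by
    by_contra hc
    have := Nat.mul_le_mul_right p (not_lt.1 hc)
    rw [hk, sq] at hn
    omega
  have hperf : commutator G = ⊤ := by
    rcases (inferInstance : (commutator G).Normal).eq_bot_or_eq_top with h | h
    · exact absurd ⟨⟨fun a b => by
        have hmem : ⁅a, b⁆ ∈ commutator G := Subgroup.commutator_mem_commutator (Subgroup.mem_top a) (Subgroup.mem_top b)
        rw [h, Subgroup.mem_bot] at hmem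
        exact commutatorElement_eq_one_iff_mul_comm.1 hmem⟩⟩ hS
    · exact h
  have hcore : Cfsg.pPrimeCore p G = ⊥ := by
    rcases (Cores.pPrimeCore_normal p G).eq_bot_or_eq_top with h | h
    · exact h
    · exfalso
      have h2 := Cores.not_dvd_card_pPrimeCore (G := G) (p := p)
      rw [h, Subgroup.card_top] at h2
      exact h2 hpG
  obtain ⟨c, hc⟩ : Nat.card (Sylow p G) * p ∣ Nat.card G := by
    have h1 := P.card_eq_index_normalizer
    rw [h1, ← (Subgroup.normalizer ((P : Subgroup G) : Set G)).card_mul_index, mul_comm _ p]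
    refine Nat.mul_dvd_mul_right ?_ _
    conv_lhs => rw [← hP]
    exact Subgroup.card_dvd_of_le Subgroup.le_normalizer
  rcases BrauerN.dichotomy_core hperf hcore P hP hk with
    ⟨F, hF1, hF2, hFc, h3, ⟨e⟩⟩ | ⟨m, F, hF1, hF2, hFc, hpm, h3, ⟨e⟩⟩ | hF
  · have hFn : Nat.card F = p := by rw [Nat.card_eq_fintype_card, hFc]
    have hc2 : Nat.card G * 2 = p * (p - 1) * (p + 1) := by
      rw [Nat.card_congr e.toEquiv, GLOrder.card_PSL, GLOrder.card_SL_two, hFn, Fintype.card_fin]
      have h2 : 2 ∣ p - 1 := by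
        rcases hp.out.eq_two_or_odd with h | h <;> omega
      rw [Nat.gcd_eq_left h2, show p ^ 2 - 1 = (p - 1) * (p + 1) by
        obtain ⟨x, rfl⟩ : ∃ x, p = x + 1 := ⟨p - 1, by omega⟩
        simp only [Nat.add_sub_cancel, sq]
        have : (x + 1) * (x + 1) = x * (x + 1 + 1) + 1 := by ring
        omega]
      rw [Nat.div_mul_cancel]
      · ring
      · exact (h2.mul_right _).mul_left _
    rw [hc, hk] at hc2
    have hc3 : (1 + k * p) * (c * 2) = (p - 1) * (p + 1) :=
      Nat.eq_of_mul_eq_mul_left hp.out.pos (by linarith)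
    obtain ⟨x, hx⟩ : ∃ x, p = x + 1 := ⟨p - 1, by omega⟩
    subst hx
    simp only [Nat.add_sub_cancel] at hc3
    have hle : c * 2 ≤ x := by
      by_contra hlt
      have h5 : (1 + 1 * (x + 1)) * (x + 1) ≤ (1 + k * (x + 1)) * (c * 2) :=
        Nat.mul_le_mul (Nat.add_le_add_left (Nat.mul_le_mul_right _ hk1) 1) (by omega)
      rw [hc3] at h5
      nlinarith
    have hcx : c * 2 = x := by
      refine eq_of_mod_eq (p := x + 1) ?_ (by omega) (by omega)
      have h6 : (c * 2 + k * (c * 2) * (x + 1)) % (x + 1) = (x + x * (x + 1)) % (x + 1) := by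
        congr 1; linarith
      rwa [Nat.add_mul_mod_self_right, Nat.add_mul_mod_self_right] at h6
    rw [hcx, mul_comm x] at hc3
    have hk2 : 1 + k * (x + 1) = x + 1 + 1 := Nat.eq_of_mul_eq_mul_right (by omega) hc3
    rw [hk, hk2] at hqj
    have hodd : x % 2 = 0 := by omega
    have hq2 : q = 2 := by
      have hdvd : 2 ∣ q ^ j := hqj ▸ (by omega : 2 ∣ x + 1 + 1)
      exact ((Nat.prime_dvd_prime_iff_eq Nat.prime_two hq).1 (Nat.prime_two.dvd_of_dvd_pow hdvd)).symm
    exact hp' ⟨h3, j, by rw [← hq2]; exact hqj⟩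
  · have hc2 : Nat.card G = 2 ^ m * (2 ^ m - 1) * p := by
      rw [Nat.card_congr e.toEquiv, GLOrder.card_SL_two, Nat.card_eq_fintype_card, hFc, hpm]
      obtain ⟨Q, hQ⟩ : ∃ Q, 2 ^ m = Q + 1 := ⟨2 ^ m - 1, by have := Nat.one_le_two_pow (n := m); omega⟩
      rw [hQ, Nat.add_sub_cancel, sq]
      have : (Q + 1) * (Q + 1) = Q * (Q + 1 + 1) + 1 := by ring
      rw [this, Nat.add_sub_cancel]
      ring
    rw [hc, hk] at hc2
    have hc3 : (1 + k * p) * c = 2 ^ m * (2 ^ m - 1) :=
      Nat.eq_of_mul_eq_mul_left hp.out.pos (by linarith)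
    obtain ⟨Q, hQ⟩ : ∃ Q, 2 ^ m = Q + 1 := ⟨2 ^ m - 1, by have := Nat.one_le_two_pow (n := m); omega⟩
    have hm2 : 2 ≤ m := by
      by_contra hm
      interval_cases m <;> omega
    have hQ3 : 3 ≤ Q := by
      have := Nat.pow_le_pow_right (by norm_num : 0 < 2) hm2
      omega
    rw [hQ, Nat.add_sub_cancel] at hc3
    rw [hQ] at hpm
    subst hpm
    have hle : c < Q + 2 := by
      by_contra hlt
      have h5 : (1 + 1 * (Q + 1 + 1)) * (Q + 1 + 1) ≤ (1 + k * (Q + 1 + 1)) * c :=
        Nat.mul_le_mul (Nat.add_le_add_left (Nat.mul_le_mul_right _ hk1) 1) (by omega)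
      rw [hc3] at h5
      nlinarith
    obtain ⟨Q', rfl⟩ : ∃ Q', Q = Q' + 1 := ⟨Q - 1, by omega⟩
    have hc4 : c = 2 := by
      refine eq_of_mod_eq (p := Q' + 1 + 1 + 1) ?_ (by omega) (by omega)
      have h6 : (c + k * c * (Q' + 1 + 1 + 1)) % (Q' + 1 + 1 + 1) =
          (2 + Q' * (Q' + 1 + 1 + 1)) % (Q' + 1 + 1 + 1) := by
        congr 1; linarith
      rwa [Nat.add_mul_mod_self_right, Nat.add_mul_mod_self_right] at h6
    subst hc4
    rw [hk] at hqj
    rw [hqj, ← hQ] at hc3
    have h2d : 2 ∣ q ^ j := by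
      have h4 : 2 * 2 ∣ q ^ j * 2 := by
        rw [hc3]
        exact Dvd.dvd.mul_right (dvd_trans (by norm_num) (pow_dvd_pow 2 hm2)) _
      exact Nat.dvd_of_mul_dvd_mul_right (by norm_num) h4
    have hq2 : q = 2 :=
      ((Nat.prime_dvd_prime_iff_eq Nat.prime_two hq).1 (Nat.prime_two.dvd_of_dvd_pow h2d)).symm
    subst hq2
    have hQodd : (Q' + 1) % 2 = 1 := by
      have : 2 ∣ 2 ^ m := dvd_pow_self 2 (by omega)
      omega
    have hdvd : Q' + 1 ∣ 2 ^ (j + 1) := ⟨2 ^ m, by rw [pow_succ, hc3, mul_comm]⟩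
    obtain ⟨i, -, hi⟩ := (Nat.dvd_prime_pow Nat.prime_two).1 hdvd
    rcases i with _ | i
    · omega
    · rw [pow_succ] at hi; omega
  · exact form_not_prime_pow hk1 hkp hF ⟨q, j, hq, hk ▸ hqj⟩

theorem prime_pow_of_dvd {a b : ℕ} (hab : a ∣ b) (h : ∃ q k : ℕ, q.Prime ∧ b = q ^ k) :
    ∃ q k : ℕ, q.Prime ∧ a = q ^ k := by
  obtain ⟨q, k, hq, rfl⟩ := h
  obtain ⟨i, -, hi⟩ := (Nat.dvd_prime_pow hq).1 hab
  exact ⟨q, i, hq, hi⟩

theorem isPSolvable_of_prime_pow (hp' : ¬ (3 < p ∧ ∃ k : ℕ, p + 1 = 2 ^ k)) :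
    ∀ (n : ℕ) {G : Type u} [Group G] [Finite G], Nat.card G = n → Nat.card (Sylow p G) < p ^ 2 →
      (∃ q k : ℕ, q.Prime ∧ Nat.card (Sylow p G) = q ^ k) → Cfsg.IsPSolvable p G := by
  intro n
  induction n using Nat.strong_induction_on with
  | _ n ih =>
  intro G _ _ hG hn hpow
  rcases subsingleton_or_nontrivial G with hs | hs
  · exact ClassIndex.isPSolvable_of_subsingleton G p
  have hq : ∀ M : Subgroup G, M.Normal → M ≠ ⊥ →
      ((∃ m : ℕ, Nat.card M = p ^ m) ∨ (Nat.card M).Coprime p) → Cfsg.IsPSolvable p G := by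
    intro M hM hne hMn
    haveI := hM
    have hlt : Nat.card (G ⧸ M) < n := by
      rw [← hG, Subgroup.card_eq_card_quotient_mul_card_subgroup M]
      exact lt_mul_of_one_lt_right Nat.card_pos ((Subgroup.one_lt_card_iff_ne_bot M).mpr hne)
    exact ClassIndex.isPSolvable_of_ext M hMn (ih _ hlt rfl
      ((Nat.le_of_dvd Nat.card_pos (card_sylow_quotient_dvd M)).trans_lt hn)
      (prime_pow_of_dvd (card_sylow_quotient_dvd M) hpow))
  by_cases hsimple : IsSimpleGroup G
  · by_cases hab : IsMulCommutative G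
    · haveI := hab
      haveI : Group.IsSolvable G := Group.isSolvable_of_comm fun a b => mul_comm' a b
      exact ClassIndex.isPSolvable_of_isSolvable G inferInstance
    by_cases hd : p ∣ Nat.card G
    · exact absurd hpow (not_simple hab hd hp' hn)
    · exact hq ⊤ inferInstance top_ne_bot
        (Or.inr (by rw [Subgroup.card_top]; exact ((hp.out.coprime_iff_not_dvd).2 hd).symm))
  obtain ⟨N, hN, hN1, hN2⟩ : ∃ N : Subgroup G, N.Normal ∧ N ≠ ⊥ ∧ N ≠ ⊤ := by
    by_contra h
    push Not at h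
    exact hsimple ⟨fun H hH => or_iff_not_imp_left.2 fun hb => h H hH hb⟩
  haveI := hN
  haveI : Nontrivial ↥N := (Subgroup.nontrivial_iff_ne_bot N).2 hN1
  have hlt : Nat.card N < n := hG ▸ lt_of_le_of_ne (Subgroup.card_le_card_group N)
    fun e => hN2 (N.eq_top_of_card_eq e)
  have hps := ih _ hlt rfl ((Nat.le_of_dvd Nat.card_pos (card_sylow_normal_dvd N)).trans_lt hn)
    (prime_pow_of_dvd (card_sylow_normal_dvd N) hpow)
  obtain ⟨M₀, hM₀, hM₀1, hnum⟩ := (Solvable.isPiSeparable_of_isPSolvable hps).exists_normal_ne_bot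
  rcases hnum with h1 | h1
  · have hMp : IsPGroup p M₀ :=
      IsPGroup.of_card (Nat.eq_prime_pow_of_unique_prime_dvd Nat.card_pos.ne' fun {q} hq hd => h1 q hq hd)
    refine hq ((Cfsg.pCore p N).map N.subtype) (Cores.map_subtype_normal_of_characteristic N _)
      (fun h => hM₀1 ?_) (Or.inl ?_)
    · rw [Subgroup.map_eq_bot_iff_of_injective _ N.subtype_injective] at h
      exact le_bot_iff.1 (h ▸ Cores.le_pCore hM₀ hMp)
    · rw [Subgroup.card_map_of_injective N.subtype_injective]
      exact IsPGroup.iff_card.1 (Cores.isPGroup_pCore p N)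
  · have hMp : (Nat.card M₀).Coprime p :=
      ((hp.out.coprime_iff_not_dvd).2 fun hd => h1 p hp.out hd rfl).symm
    refine hq ((Cfsg.pPrimeCore p N).map N.subtype) (Cores.map_subtype_normal_of_characteristic N _)
      (fun h => hM₀1 ?_) (Or.inr ?_)
    · rw [Subgroup.map_eq_bot_iff_of_injective _ N.subtype_injective] at h
      exact le_bot_iff.1 (h ▸ Cores.le_pPrimeCore hM₀ hMp)
    · rw [Subgroup.card_map_of_injective N.subtype_injective]
      exact Cores.coprime_card_pPrimeCore p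

end Cfsg.Agent.FewSylowPrimePow
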